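import Groth.Agent.An.H887.SchDef
import Mathlib.AlgebraicGeometry.Morphisms.Smooth
import Groth.Agent.Desc.LQF
import Mathlib.RingTheory.RingHom.StandardSmooth

/-!
# Etale coordinates on schemes over `ℂ`: existence and first properties
-/

set_option autoImplicit false

open CategoryTheory AlgebraicGeometry TopologicalSpace
open Groth.Agent.An.H863.PtsBasic Groth.Agent.An.H887.SchDef

namespace Groth.Agent.An.H416.Coord

/-- `strU` in terms of `appLE`. -/
theorem strU_eq_appLE {X : Scheme.{0}} [X.Over An.SC] (U : X.Opens) :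
    strU U = ((X ↘ An.SC).appLE ⊤ U le_top).hom.comp
      (Scheme.ΓSpecIso (CommRingCat.of ℂ)).inv.hom := by
  apply RingHom.ext
  intro c
  rfl

/-- Functoriality of the structure maps. -/
theorem appLE_comp_strU {X' X : Scheme.{0}} [X.Over An.SC] [X'.Over An.SC] (f : X' ⟶ X)
    [f.IsOver An.SC] (V : X.Opens) (V' : X'.Opens) (e : V' ≤ f ⁻¹ᵁ V) :
    (f.appLE V V' e).hom.comp (strU V) = strU V' := by
  rw [strU_eq_appLE, strU_eq_appLE, ← RingHom.comp_assoc, ← CommRingCat.hom_comp,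
    Scheme.Hom.appLE_comp_appLE]
  congr 2
  simp only [comp_over f An.SC]

/-- Etale coordinates pull back along etale morphisms. -/
theorem coord_of_etale {n : ℕ} {X' X : Scheme.{0}} [X.Over An.SC] [X'.Over An.SC] (f : X' ⟶ X)
    [f.IsOver An.SC] [Etale f] (V : X.Opens) (hV : IsAffineOpen V)
    (φ : MvPolynomial (Fin n) ℂ →+* Γ(X, V)) (hφ : φ.Etale)
    (hφC : φ.comp MvPolynomial.C = strU V) (x' : X') (hx' : f x' ∈ V) :
    ∃ (V' : X'.Opens) (_ : IsAffineOpen V') (_ : x' ∈ V')
    (φ' : MvPolynomial (Fin n) ℂ →+* Γ(X', V')), φ'.Etale ∧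
      φ'.comp MvPolynomial.C = strU V' := by
  obtain ⟨V', hV', hx'V', hle⟩ := exists_isAffineOpen_mem_and_subset (x := x') (U := f ⁻¹ᵁ V) hx'
  refine ⟨V', hV', hx'V', (f.appLE V V' hle).hom.comp φ, ?_, ?_⟩
  · exact RingHom.Etale.stableUnderComposition _ _ hφ
      (HasRingHomProperty.appLE (P := @Etale) f inferInstance ⟨V, hV⟩ ⟨V', hV'⟩ hle)
  · rw [RingHom.comp_assoc, hφC, appLE_comp_strU]

theorem HasCoord.of_etale {n : ℕ} {X' X : Scheme.{0}} [X.Over An.SC] [X'.Over An.SC] (f : X' ⟶ X)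
    [f.IsOver An.SC] [Etale f] (h : HasCoord n X) : HasCoord n X' := by
  intro x'
  obtain ⟨V, hV, hx, φ, hφ, hφC⟩ := h (An.Pts.map f x')
  rw [An.Pts.pt_map] at hx
  exact coord_of_etale f V hV φ hφ hφC x'.pt hx

theorem opens_eq_top (U : An.SC.Opens) (p : An.SC) (hp : p ∈ U) : U = ⊤ := by
  ext q
  simp only [Opens.coe_top, Set.mem_univ, iff_true]
  rw [An.eq_cpt q, ← An.eq_cpt p]
  exact hp

/-- Smooth schemes over `ℂ` have etale coordinates locally. -/
theorem exists_hasCoord (X : Scheme.{0}) [X.Over An.SC] [Smooth (X ↘ An.SC)] (x : An.Pts X) :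
    ∃ (n : ℕ) (U : X.Opens), x.pt ∈ U ∧ HasCoord n U.toScheme := by
  obtain ⟨W, hW, V, hV, hxV, e, hstd⟩ := Smooth.exists_isStandardSmooth (X ↘ An.SC) x.pt
  obtain rfl : W = ⊤ := opens_eq_top W _ (e hxV)
  have hstd' : (strU V).IsStandardSmooth := by
    rw [strU_eq_appLE]
    exact RingHom.isStandardSmooth_respectsIso.2 _
      ((Scheme.ΓSpecIso (CommRingCat.of ℂ)).symm.commRingCatIsoToRingEquiv) hstd
  obtain ⟨n, g, hgC, hg⟩ := hstd'.exists_etale_mvPolynomial
  refine ⟨n, V, hxV, ?_⟩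
  intro y
  exact coord_of_etale V.ι V hV g hg hgC y.pt y.pt.2

/-- Principal open subsets of affine space have etale coordinates. -/
theorem hasCoord_spec {m : ℕ} (Δ : MvPolynomial (Fin m) ℂ) :
    HasCoord m (specA (Localization.Away Δ)) := by
  intro x
  let e : CommRingCat.of (Localization.Away Δ) ≅
      Γ(Spec (CommRingCat.of (Localization.Away Δ)), ⊤) :=
    (Scheme.ΓSpecIso (CommRingCat.of (Localization.Away Δ))).symm
  refine ⟨⊤, isAffineOpen_top _, Opens.mem_top _,
    e.hom.hom.comp (algebraMap (MvPolynomial (Fin m) ℂ) (Localization.Away Δ)), ?_, ?_⟩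
  · have h1 : (algebraMap (MvPolynomial (Fin m) ℂ) (Localization.Away Δ)).Etale :=
      RingHom.etale_algebraMap.mpr (Algebra.Etale.of_isLocalizationAway Δ)
    exact RingHom.Etale.respectsIso.1 _ e.commRingCatIsoToRingEquiv h1
  · rw [RingHom.comp_assoc, ← MvPolynomial.algebraMap_eq, ← IsScalarTower.algebraMap_eq]
    rw [strU_eq_appLE]
    have h2 := Scheme.ΓSpecIso_inv_naturality
      (CommRingCat.ofHom (algebraMap ℂ (Localization.Away Δ)))
    have h3 := congrArg CommRingCat.Hom.hom h2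
    have h4 : (specA (Localization.Away Δ) ↘ An.SC).appLE ⊤ ⊤ le_top =
      (Spec.map (CommRingCat.ofHom (algebraMap ℂ (Localization.Away Δ)))).appTop :=
        Scheme.Hom.appLE_eq_app _
    rw [h4]
    exact h3

/-- Zero-dimensional etale coordinates: the complex points are discrete. -/
theorem discreteTopology_of_hasCoord_zero {X : Scheme.{0}} [X.Over An.SC] (h : HasCoord 0 X) :
    DiscreteTopology (An.Pts X) := by
  rw [discreteTopology_iff_isOpen_singleton]
  intro x
  obtain ⟨V, hV, hxV, φ, hφ, hφC⟩ := h x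
  have hC : (MvPolynomial.C : ℂ →+* MvPolynomial (Fin 0) ℂ).Etale :=
    RingHom.Etale.of_bijective (MvPolynomial.isEmptyRingEquiv ℂ (Fin 0)).symm.bijective
  have h1 : (strU V).Etale := by
    rw [← hφC]
    exact RingHom.Etale.stableUnderComposition _ _ hC hφ
  have h2 : (strU (⊤ : V.toScheme.Opens)).Etale := by
    rw [← appLE_comp_strU V.ι V ⊤ (by simp)]
    exact RingHom.Etale.stableUnderComposition _ _ h1
      (HasRingHomProperty.appLE (P := @Etale) V.ι inferInstance ⟨V, hV⟩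
        ⟨⊤, by have : IsAffine V.toScheme := hV; exact isAffineOpen_top _⟩ (by simp))
  have h3 : ((V.toScheme ↘ An.SC).appLE ⊤ ⊤ le_top).hom.Etale := by
    have h4 : ((V.toScheme ↘ An.SC).appLE ⊤ ⊤ le_top).hom =
        (strU (⊤ : V.toScheme.Opens)).comp
          (Scheme.ΓSpecIso (CommRingCat.of ℂ)).commRingCatIsoToRingEquiv.toRingHom := by
      rw [strU_eq_appLE, RingHom.comp_assoc]
      apply RingHom.ext
      intro c
      have h5 : (Scheme.ΓSpecIso (CommRingCat.of ℂ)).inv
          ((Scheme.ΓSpecIso (CommRingCat.of ℂ)).hom c) = c := by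
        rw [← ConcreteCategory.comp_apply, Iso.hom_inv_id]
        rfl
      exact congrArg _ h5.symm
    rw [h4]
    exact RingHom.Etale.respectsIso.2 _ _ h2
  have hVa : IsAffine V.toScheme := hV
  have h5 : Etale (V.toScheme ↘ An.SC) := by
    rw [HasRingHomProperty.iff_of_isAffine (P := @Etale)]
    have h4 : (V.toScheme ↘ An.SC).appLE ⊤ ⊤ le_top = (V.toScheme ↘ An.SC).appTop :=
        Scheme.Hom.appLE_eq_app _
    rw [← h4]
    exact h3
  have h6' : LocallyQuasiFinite (V.toScheme ↘ An.SC) := Groth.Agent.Desc.LQF.of_etale _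
  have h6 : IsLocallyArtinian V.toScheme :=
    IsLocallyArtinian.of_locallyQuasiFinite (V.toScheme ↘ An.SC)
  have h7 : IsOpen ({⟨x.pt, hxV⟩} : Set V.toScheme) := isOpen_discrete _
  have h8 := V.ι.isOpenEmbedding.isOpenMap _ h7
  have h9 : (V.ι '' ({⟨x.pt, hxV⟩} : Set V.toScheme)) = {x.pt} := by
    rw [Set.image_singleton]
    rfl
  rw [h9] at h8
  have h10 := An.Pts.isOpen_preimage_pt (X := X) ⟨{x.pt}, h8⟩
  convert h10 using 1
  ext y
  constructor
  · rintro rfl
    rfl
  · intro hy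
    exact pt_injective hy

end Groth.Agent.An.H416.Coord
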