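import Groth.Agent.An.H887.SchDef
import Groth.Agent.An.H887.Tower
import Mathlib.AlgebraicGeometry.Morphisms.Finite

/-!
# The local fibration of a smooth `ℂ`-scheme in punctured lines: scheme form
-/

set_option autoImplicit false

open CategoryTheory AlgebraicGeometry TopologicalSpace
open Groth.Agent.An.H863.PtsBasic Groth.Agent.An.H887.SchDef

namespace Groth.Agent.An.H416.Fibration

/-- The projection from the standard punctured line bundle to its base. -/
noncomputable def proj {m : ℕ} (Δ : MvPolynomial (Fin m) ℂ) (D : Polynomial (Localization.Away Δ)) :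
    specA (Localization.Away D) ⟶ specA (Localization.Away Δ) :=
  Spec.map (CommRingCat.ofHom (algebraMap (Localization.Away Δ) (Localization.Away D)))

instance isOver_proj {m : ℕ} (Δ : MvPolynomial (Fin m) ℂ) (D : Polynomial (Localization.Away Δ)) :
    (proj Δ D).IsOver An.SC where
  comp_over := by
    change Spec.map _ ≫ Spec.map _ = Spec.map _
    rw [← Spec.map_comp, ← CommRingCat.ofHom_comp, ← IsScalarTower.algebraMap_eq]

/-- The structure map of an affine open subscheme. -/
theorem isoSpec_hom_comp {X : Scheme.{0}} [X.Over An.SC] {U : X.Opens} (hU : IsAffineOpen U) :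
    hU.isoSpec.hom ≫ Spec.map (CommRingCat.ofHom (strU U)) = U.ι ≫ (X ↘ An.SC) := by
  apply ext_of_isAffine
  have h1 : (Spec.map (CommRingCat.ofHom (strU U))).appTop =
      (Scheme.ΓSpecIso (CommRingCat.of ℂ)).hom ≫ CommRingCat.ofHom (strU U) ≫
        (Scheme.ΓSpecIso Γ(X, U)).inv := by
    rw [← Category.assoc, Iso.eq_comp_inv]
    exact Scheme.ΓSpecIso_naturality (CommRingCat.ofHom (strU U))
  rw [Scheme.Hom.comp_appTop, h1, IsAffineOpen.isoSpec_hom_appTop, Scheme.Hom.comp_appTop]
  simp only [Category.assoc, Iso.inv_hom_id_assoc]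
  have h2 : CommRingCat.ofHom (strU U) = (Scheme.ΓSpecIso (CommRingCat.of ℂ)).inv ≫
      (X ↘ An.SC).appTop ≫ X.presheaf.map (homOfLE (le_top : U ≤ ⊤)).op := rfl
  rw [h2]
  simp only [Category.assoc, Iso.hom_inv_id_assoc]
  congr 1
  exact (X.presheaf.map_comp _ _).symm

theorem exists_fibration {m : ℕ} (X : Scheme.{0}) [X.Over An.SC] (hX : HasCoord (m + 1) X)
    (x : An.Pts X) :
    ∃ (U : X.Opens) (_ : x.pt ∈ U) (Δ : MvPolynomial (Fin m) ℂ)
      (D : Polynomial (Localization.Away Δ)) (_ : D.Monic) (_ : D.Separable)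
      (g : U.toScheme ⟶ specA (Localization.Away D)) (_ : g.IsOver An.SC),
      IsFinite g ∧ Etale g := by
  obtain ⟨V, hV, hxV, φ, hφ, hφC⟩ := hX x
  let _ : Algebra (MvPolynomial (Fin (m + 1)) ℂ) Γ(X, V) := φ.toAlgebra
  let _ : Algebra ℂ Γ(X, V) := (strU V).toAlgebra
  have hst : IsScalarTower ℂ (MvPolynomial (Fin (m + 1)) ℂ) Γ(X, V) :=
    IsScalarTower.of_algebraMap_eq' hφC.symm
  have het : Algebra.Etale (MvPolynomial (Fin (m + 1)) ℂ) Γ(X, V) := hφ
  let xh : Γ(X, V) →ₐ[ℂ] ℂ := { evHom x V hxV with commutes' := fun c => ev_strU x V hxV c }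
  obtain ⟨a, Δ, D, hxa, hDm, hDs, H⟩ := Groth.Agent.An.H887.Tower.one_step (m := m) xh
  have hU : IsAffineOpen (X.basicOpen a) := hV.basicOpen a
  have hloc : IsLocalization.Away a Γ(X, X.basicOpen a) := hV.isLocalization_basicOpen a
  obtain ⟨g₀, hgf, hge, hgc⟩ := H Γ(X, X.basicOpen a)
  refine ⟨X.basicOpen a, (ev_ne_zero_iff x V hxV a).mp hxa, Δ, D, hDm, hDs,
    hU.isoSpec.hom ≫ Spec.map (CommRingCat.ofHom g₀), ⟨?_⟩, ?_, ?_⟩
  · have h1 : g₀.comp (algebraMap ℂ (Localization.Away D)) = strU (X.basicOpen a) := by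
      apply RingHom.ext
      intro c
      rw [RingHom.comp_apply, hgc]
      exact map_strU (X.basicOpen_le a) c
    change (hU.isoSpec.hom ≫ Spec.map (CommRingCat.ofHom g₀)) ≫
      Spec.map (CommRingCat.ofHom (algebraMap ℂ (Localization.Away D))) =
        (X.basicOpen a).ι ≫ (X ↘ An.SC)
    rw [Category.assoc, ← Spec.map_comp, ← CommRingCat.ofHom_comp, h1]
    exact isoSpec_hom_comp hU
  · have h2 : IsFinite (Spec.map (CommRingCat.ofHom g₀)) := (IsFinite.SpecMap_iff _).mpr hgf
    infer_instance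
  · have h2 : Etale (Spec.map (CommRingCat.ofHom g₀)) :=
      (HasRingHomProperty.Spec_iff (P := @Etale)).mpr hge
    infer_instance

end Groth.Agent.An.H416.Fibration
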